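import Groth.Agent.Stk19b.ModSt.RankLocus
import Groth.Agent.Stk19b.OpenSub.Basic
import Groth.Agent.Stk19b.OpenSub.Range
import Groth.Agent.Stk19b.GenInertia.Main
import Groth.Prelude.Def_ModSt

/-! Open substacks cut out by properties open on charts; the invertible modules inside the stack of coherent modules. -/

set_option autoImplicit false
set_option linter.style.haveILetI false
set_option backward.isDefEq.respectTransparency false
set_option backward.isDefEq.respectTransparency.types false

universe u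

open CategoryTheory CategoryTheory.Limits AlgebraicGeometry Opposite FibCat Groth.Agent.Stk19 Groth.Agent.Desc19

namespace Groth.Agent.Stk19b.ModStk

variable {S : Scheme.{u}}

/-- A property stable under pullback which on every chart holds exactly over an open gives an open immersion. -/
theorem isOpenImm_subIncl_of_chart {𝒳 : AlgSt.Cat S} (h𝒳 : IsFibGrpd 𝒳.p) {Q : 𝒳.obj → Prop}
    (hQ : ∀ ⦃a b : 𝒳.obj⦄ (_ : a ⟶ b), Q b → Q a)
    (hW : ∀ (U : Over S) (y : overCat U ⥤ᵇ 𝒳), ∃ O : U.left.Opens, ∀ a : (overCat U).obj,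
      Q (y.obj a) ↔ ∀ k, a.hom.left k ∈ O) : AlgSt.IsOpenImm (AlgSt.subIncl 𝒳 Q) := by
  intro U y
  have h := h𝒳
  obtain ⟨O, hO⟩ := hW U y
  let U' : Over S := Over.mk (O.ι ≫ U.hom)
  let u : U' ⟶ U := Over.homMk O.ι
  have hu : Mono u := (Over.forget S).mono_of_mono_map (inferInstanceAs (Mono O.ι))
  let z : overCat U' ⥤ᵇ 𝒳 := BasedFunctor.comp (AlgSt.overMap u) y
  have hz : ∀ a, Q (z.obj a) := fun a => (hO ((AlgSt.overMap u).obj a)).2 fun k => (a.hom.left k).2
  let L : overCat U' ⥤ᵇ AlgSt.fullSub 𝒳 (Q) :=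
    { toFunctor := ObjectProperty.lift _ z.toFunctor hz
      w := z.w }
  let G : overCat U' ⥤ᵇ fp y (AlgSt.subIncl 𝒳 (Q)) :=
    fpLift (F := y) (G := AlgSt.subIncl 𝒳 (Q)) (AlgSt.overMap u) L (Iso.refl z)
  have hG : IsEquivOver G := by
    refine EqvData.isEquivOver ⟨⟨fun {a b} m => ?_⟩, ⟨fun {a b} f g hfg => ?_⟩, fun η => ?_⟩
    · have hw : m.hom.fst.left ≫ b.hom ≫ u = a.hom ≫ u := Over.w m.hom.fst
      let f : a ⟶ b := Over.homMk m.hom.fst.left ((cancel_mono u).1 (by rw [Category.assoc]; exact hw))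
      have hf : (AlgSt.overMap u).map f = m.hom.fst := Over.OverMorphism.ext rfl
      refine ⟨f, fp_hom_ext hf (ObjectProperty.hom_ext _ ?_)⟩
      have w := m.hom.w
      change y.map ((AlgSt.overMap u).map f) = m.hom.snd.hom
      rw [hf]
      exact (Category.comp_id _).symm.trans (w.trans (Category.id_comp _))
    · exact Over.OverMorphism.ext (congrArg (fun m => m.hom.fst.left) hfg)
    · let a := η.obj.fst
      have ha : ∀ k, a.hom.left k ∈ O := (hO a).1 (hQ η.obj.iso.hom η.obj.snd.property)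
      have hr : Set.range a.hom.left ⊆ Set.range O.ι := by
        rintro _ ⟨k, rfl⟩
        rw [Scheme.Opens.range_ι]
        exact ha k
      let v : a.left ⟶ U' := Over.homMk (IsOpenImmersion.lift O.ι a.hom.left hr)
        (by simp [U', IsOpenImmersion.lift_fac_assoc])
      have hv : v ≫ u = a.hom := Over.OverMorphism.ext (IsOpenImmersion.lift_fac _ _ _)
      let i : (AlgSt.overMap u).obj (Over.mk v) ≅ a := Over.isoMk (Iso.refl _) (by
        show 𝟙 _ ≫ a.hom = v ≫ u
        rw [Category.id_comp, hv])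
      let j : L.obj (Over.mk v) ≅ η.obj.snd :=
        (ObjectProperty.ι (Q)).preimageIso (y.toFunctor.mapIso i ≪≫ η.obj.iso)
      let e : G.obj (Over.mk v) ≅ η := fpIsoMk i j (by
        show y.map i.hom ≫ η.obj.iso.hom = 𝟙 _ ≫ (ObjectProperty.ι (Q)).map j.hom
        exact ((Category.id_comp _).trans ((ObjectProperty.ι (Q)).map_preimage
          (X := L.obj (Over.mk v)) (Y := η.obj.snd) (y.toFunctor.mapIso i ≪≫ η.obj.iso).hom)).symm)
      exact ⟨Over.mk v, e, (vert_iff (fp y (AlgSt.subIncl 𝒳 (Q))).p _).2 ⟨rfl, rfl, rfl⟩⟩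
  refine ⟨⟨_, AlgSp.IsAlgSpace.yon_obj U'⟩, BasedFunctor.comp (AlgSt.toOverCat U') G,
    isEquivOver_comp (isEquivOver_toOverCat U') hG, ?_⟩
  change AlgSp.RepWith @IsOpenImmersion (AlgSt.spMapOfOver (BasedFunctor.comp (AlgSt.toOverCat U') (AlgSt.overMap u)))
  rw [spMapOfOver_overMap, spMapOfOver_toOverCat, Category.id_comp]
  exact (AlgSp.repWith_yon_map_iff @IsOpenImmersion u).2 (inferInstanceAs (IsOpenImmersion O.ι))


/-- The adjoint of a cartesian comparison map is an isomorphism. -/
theorem exists_iso_of_isCart {Y Z : Scheme.{u}} {h : Y ⟶ Z} {N : Z.Modules} {M : Y.Modules}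
    {c : N ⟶ (Scheme.Modules.pushforward h).obj M} (hc : ModSt.IsCart h c) :
    Nonempty ((Scheme.Modules.pullback h).obj N ≅ M) := by
  let adj := Scheme.Modules.pullbackPushforwardAdjunction h
  let α : (Scheme.Modules.pullback h).obj N ⟶ M := (adj.homEquiv N M).symm c
  haveI : IsIso α := isIso_of_coyoneda_map_bijective α fun M' => by
    refine (Function.Bijective.of_comp_iff' (adj.homEquiv N M').bijective _).1 ?_
    convert hc M' using 1
    funext v
    show adj.homEquiv N M' (α ≫ v) = _
    rw [Adjunction.homEquiv_naturality_right, Equiv.apply_symm_apply]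
  exact ⟨asIso α⟩

/-- The invertible modules form an open substack of the stack of coherent modules. -/
theorem isOpenImm_subIncl_rank {X : Scheme.{u}} (f : X ⟶ S) [IsProper f] [LocallyOfFinitePresentation f] (r : ℕ) :
    AlgSt.IsOpenImm (AlgSt.subIncl (ModSt.Coh f) fun A => FlatMod.IsFinLocFreeOfRank r A.obj.E) := by
  have hiso : ∀ {Y : Scheme.{u}} {M N : Y.Modules}, (M ≅ N) → FlatMod.IsFinLocFreeOfRank r M →
      FlatMod.IsFinLocFreeOfRank r N := fun e h y => Groth.Agent.FlatMor12.FlatFun.freeNear_of_iso e (h y)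
  refine isOpenImm_subIncl_of_chart (Desc19b.ModStFib.isFibGrpd_coh f) (fun a b φ hb => ?_) fun U y => ?_
  · obtain ⟨e⟩ := exists_iso_of_isCart φ.hom.cart
    exact hiso e (freeNear_pullback' _ fun x => hb _)
  · let o : (overCat U).obj := Over.mk (𝟙 U)
    let A := y.obj o
    have hb : A.obj.base = U := y.w_obj o
    haveI : IsProper A.obj.q := MorphismProperty.of_isPullback (P := @IsProper) A.obj.isPullback inferInstance
    haveI : LocallyOfFinitePresentation A.obj.q :=
      MorphismProperty.of_isPullback (P := @LocallyOfFinitePresentation) A.obj.isPullback inferInstance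
    obtain ⟨O, hO⟩ := exists_rank_open A.obj.q A.obj.E A.property.2 A.property.1 r
    let i : U ⟶ A.obj.base := eqToHom hb.symm
    refine ⟨i.left ⁻¹ᵁ O, fun a => ?_⟩
    let φ : y.obj a ⟶ A := y.map (toId a)
    obtain ⟨e⟩ := exists_iso_of_isCart φ.hom.cart
    have hq := hO φ.hom.top (y.obj a).obj.q φ.hom.base.left φ.hom.isPullback_top
    have hbase : φ.hom.base = eqToHom (y.w_obj a) ≫ a.hom ≫ i := based_map y (toId a)
    have hl : φ.hom.base.left = (eqToHom (y.w_obj a)).left ≫ a.hom.left ≫ i.left := by rw [hbase]; rfl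
    haveI : IsIso (eqToHom (y.w_obj a)).left := inferInstanceAs (IsIso ((Over.forget S).map (eqToHom (y.w_obj a))))
    refine (⟨hiso e.symm, hiso e⟩ : _ ↔ _).trans (hq.trans ?_)
    refine ⟨fun h k => ?_, fun h s => ?_⟩
    · obtain ⟨s, rfl⟩ := (eqToHom (y.w_obj a)).left.surjective k
      have := h s
      rw [hl] at this
      exact this
    · rw [hl]
      exact h _

end Groth.Agent.Stk19b.ModStk
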