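import Groth.Agent.H8Coh.FibreFree
import Groth.Agent.EGA43.Cons.FibreCritScheme
import Groth.Agent.FlatMor12.FlatFun.GenPts
import Groth.Agent.Desc19b.FamilyDescent
import Groth.Agent.Desc19b.ModStFibGrpd

/-! The base points over which a flat finitely presented module is locally free of given rank. -/

set_option autoImplicit false
set_option linter.style.haveILetI false
set_option backward.isDefEq.respectTransparency false
set_option backward.isDefEq.respectTransparency.types false

universe u

open CategoryTheory CategoryTheory.Limits AlgebraicGeometry TopologicalSpace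

namespace Groth.Agent.Stk19b.ModStk

variable {X T : Scheme.{u}}

theorem freeNear_pullback' {Y : Scheme.{u}} (h : Y ⟶ X) {M : X.Modules} {r : ℕ}
    (hM : ∀ y, FlatFun.IsFreeOfRankNear M r (h y)) :
    FlatMod.IsFinLocFreeOfRank r ((Scheme.Modules.pullback h).obj M) :=
  fun y => Groth.Agent.FlatMor12.FlatFun.freeNear_pullback h (hM y)

/-- Locally free of rank `r` on the fibres and flat over the base gives free of rank `r` near the point. -/
theorem freeNear_of_fibre (q : X ⟶ T) [LocallyOfFinitePresentation q] (E : X.Modules) (hF : CohB1.IsFP E)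
    (hflat : FlatMod.IsFlatOver q E) (r : ℕ) (x : X) (h₁ : x ∈ H8Coh.FibreFree.rankSet E r)
    (h₂ : EGA43.Cons.IsFibFlatAt (𝟙 X) q E x) : FlatFun.IsFreeOfRankNear E r x := by
  haveI hfp : SheafOfModules.IsFinitePresentation.{u} (R := X.ringCatSheaf) E := hF
  haveI : Coh.IsQCoh E := inferInstanceAs (SheafOfModules.IsQuasicoherent.{u} (R := X.ringCatSheaf) E)
  haveI : LocallyOfFinitePresentation (𝟙 X ≫ q) := by rw [Category.id_comp]; infer_instance
  have h0 : FlatMod.IsFlatOverAt (𝟙 X ≫ q) E x := by rw [Category.id_comp]; exact hflat x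
  have hx := EGA43.Cons.isFlatOverAt_of_isFibFlatAt (f := 𝟙 X) (h := q) E hF x h0 h₂
  have key : FlatMod.moduleStalkOver (𝟙 X) E x = FlatMod.moduleStalk E x :=
    Module.ext (funext fun r => funext fun m => by
      show ((𝟙 X : X ⟶ X).stalkMap x).hom r • m = (FlatMod.moduleStalk E x).smul r m
      rw [Scheme.Hom.stalkMap_id]; rfl)
  have hflatx : Module.Flat (X.presheaf.stalk x) (E.presheaf.stalk x) := by
    unfold FlatMod.IsFlatOverAt at hx
    rw [key] at hx
    exact hx
  haveI := Props12.finite_stalk_of_isFT E (H8Coh.FibreFree.isFT_of_isFP E hF) x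
  obtain ⟨U, n, hxU, ⟨e⟩⟩ := Props12.exists_nhd_free E hF x Module.free_of_flat_of_isLocalRing
  suffices n = r by exact ⟨U, hxU, this ▸ ⟨e⟩⟩
  have hU : FlatMod.IsFinLocFreeOfRank n ((Scheme.Modules.pullback U.ι).obj E) :=
    freeNear_pullback' U.ι fun y => ⟨U, y.2, ⟨e⟩⟩
  have hk := H8Coh.FibreFree.mem_support_iff_of_rank E (H8Coh.FibreFree.isFT_of_isFP E hF) U.ι n hU ⟨x, hxU⟩
  rcases lt_trichotomy n r with hlt | rfl | hlt
  · exact absurd ((hk n).1 ((h₁ n hlt.le).2 hlt)) (lt_irrefl n)
  · rfl
  · exact absurd ((h₁ r le_rfl).1 ((hk r).2 hlt)) (lt_irrefl r)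

/-- For a proper morphism there is an open subscheme of the base through which exactly those base changes
factor on which the module is locally free of rank `r`. -/
theorem exists_rank_open (q : X ⟶ T) [IsProper q] [LocallyOfFinitePresentation q] (E : X.Modules)
    (hF : CohB1.IsFP E) (hflat : FlatMod.IsFlatOver q E) (r : ℕ) :
    ∃ O : T.Opens, ∀ {X' T' : Scheme.{u}} (t : X' ⟶ X) (q' : X' ⟶ T') (g : T' ⟶ T), IsPullback t q' q g →
      (FlatMod.IsFinLocFreeOfRank r ((Scheme.Modules.pullback t).obj E) ↔ ∀ s, g s ∈ O) := by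
  haveI hfp : SheafOfModules.IsFinitePresentation.{u} (R := X.ringCatSheaf) E := hF
  haveI : Coh.IsQCoh E := inferInstanceAs (SheafOfModules.IsQuasicoherent.{u} (R := X.ringCatSheaf) E)
  refine ⟨⟨(q '' {x | FlatFun.IsFreeOfRankNear E r x}ᶜ)ᶜ, (q.isClosedMap _
    (Groth.Agent.FlatMor12.FlatFun.isOpen_freeNear E r).isClosed_compl).isOpen_compl⟩, ?_⟩
  intro X' T' t q' g sq
  constructor
  · rintro h s ⟨x, hx, hxs⟩
    let c : Spec (T'.residueField s) ⟶ Spec (T.residueField (g s)) := Spec.map (g.residueFieldMap s)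
    haveI : Flat c := (HasRingHomProperty.Spec_iff (P := @Flat)).2 (by
      letI := (g.residueFieldMap s).hom.toAlgebra
      exact (RingHom.flat_algebraMap_iff.2 inferInstance :
        (algebraMap (T.residueField (g s)) (T'.residueField s)).Flat))
    haveI : Surjective c := ⟨fun z => ⟨IsLocalRing.closedPoint _, Subsingleton.elim _ _⟩⟩
    let a := pullback.fst (q.fiberToSpecResidueField (g s)) c
    let b := pullback.snd (q.fiberToSpecResidueField (g s)) c
    let l := sq.lift (a ≫ q.fiberι (g s)) (b ≫ T'.fromSpecResidueField s) (by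
      rw [Category.assoc, Category.assoc, ← Scheme.Hom.SpecMap_residueFieldMap_fromSpecResidueField,
        show q.fiberι (g s) ≫ q = q.fiberToSpecResidueField (g s) ≫ T.fromSpecResidueField (g s) from
          pullback.condition, ← Category.assoc, pullback.condition, Category.assoc])
    have hl : l ≫ t = a ≫ q.fiberι (g s) := sq.lift_fst _ _ _
    have hY : FlatMod.IsFinLocFreeOfRank r ((Scheme.Modules.pullback (a ≫ q.fiberι (g s))).obj E) := hl ▸ fun y =>
      Groth.Agent.FlatMor12.FlatFun.freeNear_of_iso ((Scheme.Modules.pullbackComp l t).app E)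
        (Groth.Agent.FlatMor12.FlatFun.freeNear_pullback l (h (l y)))
    haveI := EGA43.InjFibre.isQCoh_pullback (q.fiberι (g s)) E
    have hfree : FlatMod.IsFinLocFree ((Scheme.Modules.pullback (q.fiberι (g s))).obj E) :=
      Desc19b.isFinLocFree_of_fpqc a _ fun y => by
        obtain ⟨U, hy, e⟩ := Groth.Agent.FlatMor12.FlatFun.freeNear_of_iso
          ((Scheme.Modules.pullbackComp a (q.fiberι (g s))).app E).symm (hY y)
        exact ⟨U, r, hy, e⟩
    refine hx (freeNear_of_fibre q E hF hflat r x ?_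
      ((H8Coh.FibreFree.isFinLocFree_fibre_iff q E hF (g s)).1 hfree x (by rw [Category.id_comp]; exact hxs)))
    obtain ⟨z, rfl⟩ := (q.range_fiberι (g s)).ge hxs
    obtain ⟨y, rfl⟩ := a.surjective z
    exact fun k _ => H8Coh.FibreFree.mem_support_iff_of_rank E (H8Coh.FibreFree.isFT_of_isFP E hF)
      (a ≫ q.fiberι (g s)) r hY y k
  · intro h
    refine freeNear_pullback' t fun x => ?_
    by_contra hx
    exact h (q' x) ⟨t x, hx, by rw [← Scheme.Hom.comp_apply, sq.w]; rfl⟩

end Groth.Agent.Stk19b.ModStk
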